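import Groth.Agent.TopPullModel.Flasque
import Mathlib.AlgebraicTopology.AlternatingFaceMapComplex
import Mathlib.CategoryTheory.Limits.Shapes.WidePullbacks
import Mathlib.CategoryTheory.Limits.Shapes.ConcreteCategory
import Mathlib.Topology.Category.TopCat.Limits.Basic
import Mathlib.Topology.Sheaves.Abelian
import Mathlib.CategoryTheory.Abelian.FunctorCategory

/-!
The descent complex of a continuous map with local sections.
-/

set_option autoImplicit false
set_option linter.style.haveILetI false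
set_option linter.unusedSectionVars false
set_option backward.isDefEq.respectTransparency false
set_option backward.isDefEq.respectTransparency.types false

universe u

open CategoryTheory Category Limits Opposite TopologicalSpace Simplicial

namespace Groth.Agent.TopPullModel

variable {X S : TopCat.{u}} (f : X ⟶ S)

/-- The fibre power. -/
noncomputable abbrev Pw (p : ℕ) : TopCat.{u} :=
  widePullback S (fun _ : Fin (p + 1) => X) (fun _ => f)

/-- Its structure map. -/
noncomputable abbrev bs (p : ℕ) : Pw f p ⟶ S := WidePullback.base (fun _ : Fin (p + 1) => f)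

/-- The projections. -/
noncomputable abbrev pr {p : ℕ} (i : Fin (p + 1)) : Pw f p ⟶ X := WidePullback.π (fun _ : Fin (p + 1) => f) i

theorem f_pr {p : ℕ} (i : Fin (p + 1)) (w : Pw f p) : f (pr f i w) = bs f p w :=
  ConcreteCategory.congr_hom (WidePullback.π_arrow (fun _ : Fin (p + 1) => f) i) w

theorem pw_ext {p : ℕ} {v w : Pw f p} (h : ∀ i, pr f i v = pr f i w) : v = w :=
  Concrete.widePullback_ext' (fun _ : Fin (p + 1) => f) v w h

/-- The map induced by a map of index sets. -/
noncomputable def simp' {p q : ℕ} (θ : Fin (p + 1) → Fin (q + 1)) : Pw f q ⟶ Pw f p :=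
  WidePullback.lift (bs f q) (fun i => pr f (θ i)) fun i => WidePullback.π_arrow _ _

theorem pr_simp' {p q : ℕ} (θ : Fin (p + 1) → Fin (q + 1)) (i : Fin (p + 1)) (w : Pw f q) :
    pr f i (simp' f θ w) = pr f (θ i) w :=
  ConcreteCategory.congr_hom (WidePullback.lift_π _ _ _ _ _) w

theorem bs_simp' {p q : ℕ} (θ : Fin (p + 1) → Fin (q + 1)) (w : Pw f q) :
    bs f p (simp' f θ w) = bs f q w :=
  ConcreteCategory.congr_hom (WidePullback.lift_base _ _ _ _) w

/-- Its restriction over an open. -/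
noncomputable def simpOn {p q : ℕ} (θ : Fin (p + 1) → Fin (q + 1)) (V : Opens S) :
    C((Opens.map (bs f q)).obj V, (Opens.map (bs f p)).obj V) :=
  ⟨fun w => ⟨simp' f θ w.1, show bs f p (simp' f θ w.1) ∈ V from (bs_simp' f θ w.1).symm ▸ w.2⟩,
    ((simp' f θ).hom.continuous.comp continuous_subtype_val).subtype_mk _⟩

/-- The induced map on sections. -/
noncomputable def simpSec {p q : ℕ} (θ : Fin (p + 1) → Fin (q + 1)) (F : CohTop.Ab S) (V : Opens S) :
    secs (bs f p) F ((Opens.map (bs f p)).obj V) →+ secs (bs f q) F ((Opens.map (bs f q)).obj V) :=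
  pb (simpOn f θ V) fun w => bs_simp' f θ w.1

/-- The descent functors. -/
noncomputable abbrev Cp (p : ℕ) : CohTop.Ab S ⥤ CohTop.Ab S := mfun (bs f p) ⋙ CohTop.push (bs f p)

theorem secs_congr {P : TopCat.{u}} {g : P ⟶ S} {F : CohTop.Ab S} {W : Opens P} (t : secs g F W) {v w : W}
    (h : v.1 = w.1) (x : S) (hv : g v.1 = x) (hw : g w.1 = x) : t.1 v ⟨x, hv⟩ = t.1 w ⟨x, hw⟩ := by
  obtain rfl : v = w := Subtype.ext h
  rfl

/-- The natural transformation induced by a map of index sets. -/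
noncomputable def simpNat {p q : ℕ} (θ : Fin (p + 1) → Fin (q + 1)) : Cp f p ⟶ Cp f q where
  app F := ⟨{ app := fun V => AddCommGrpCat.ofHom (simpSec f θ F V.unop)
              naturality := fun _ _ _ => rfl }⟩
  naturality _ _ _ := rfl

/-- The descent cosimplicial functor. -/
noncomputable def desc : CosimplicialObject (CohTop.Ab S ⥤ CohTop.Ab S) where
  obj n := Cp f n.len
  map θ := simpNat f θ.toOrderHom
  map_id n := NatTrans.ext (funext fun F => Sheaf.hom_ext (NatTrans.ext (funext fun V =>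
    AddCommGrpCat.ext fun t => secs_ext (g := bs f n.len) (F := F) (W := (Opens.map (bs f n.len)).obj V.unop)
      fun w x hx => secs_congr t (pw_ext f fun i => pr_simp' f _ i w.1) x _ _)))
  map_comp {a b c} θ χ := NatTrans.ext (funext fun F => Sheaf.hom_ext (NatTrans.ext (funext fun V =>
    AddCommGrpCat.ext fun t => secs_ext (g := bs f c.len) (F := F) (W := (Opens.map (bs f c.len)).obj V.unop)
      fun w x hx => secs_congr t (pw_ext f fun i => by
        refine (pr_simp' f _ i w.1).trans ?_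
        refine ((pr_simp' f _ i _).trans (pr_simp' f _ _ w.1)).symm) x _ _)))

/-- The differential. -/
noncomputable def dd (p : ℕ) : Cp f p ⟶ Cp f (p + 1) :=
  ∑ i : Fin (p + 2), (-1 : ℤ) ^ (i : ℕ) • simpNat f (Fin.succAbove i)

theorem dd_eq (p : ℕ) : dd f p = AlgebraicTopology.AlternatingCofaceMapComplex.objD (desc f) p :=
  Finset.sum_congr rfl fun _ _ => rfl

theorem dd_dd (p : ℕ) (F : CohTop.Ab S) : (dd f p).app F ≫ (dd f (p + 1)).app F = 0 := by
  have h := AlgebraicTopology.AlternatingCofaceMapComplex.d_squared (desc f) p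
  rw [← dd_eq, ← dd_eq] at h
  exact congrArg (fun k => k.app F) h

/-- Evaluation at sections, as a homomorphism. -/
noncomputable def evalHom {p q : ℕ} (F : CohTop.Ab S) (V : Opens S) (t : secs (bs f p) F ((Opens.map (bs f p)).obj V)) :
    (Cp f p ⟶ Cp f q) →+ secs (bs f q) F ((Opens.map (bs f q)).obj V) where
  toFun α := (α.app F).hom.app (op V) t
  map_zero' := rfl
  map_add' _ _ := rfl

/-- The differential on sections. -/
theorem dd_apply (p : ℕ) (F : CohTop.Ab S) (V : Opens S)
    (t : secs (bs f p) F ((Opens.map (bs f p)).obj V)) :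
    ((dd f p).app F).hom.app (op V) t =
      ∑ i : Fin (p + 2), (-1 : ℤ) ^ (i : ℕ) • simpSec f (Fin.succAbove i) F V t := by
  change evalHom f F V t (dd f p) = _
  rw [dd, map_sum]
  exact Finset.sum_congr rfl fun i _ => map_zsmul _ _ _

/-- The augmentation. -/
noncomputable def aug : 𝟭 (CohTop.Ab S) ⟶ Cp f 0 where
  app F := unit (bs f 0) F
  naturality _ _ φ := unit_naturality (bs f 0) φ

theorem aug_dd (F : CohTop.Ab S) : (aug f).app F ≫ (dd f 0).app F = 0 :=
  Sheaf.hom_ext (NatTrans.ext (funext fun V => AddCommGrpCat.ext fun s => by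
    refine (dd_apply f 0 F V.unop (unitApp (bs f 0) F V.unop s)).trans ?_
    rw [Fin.sum_univ_two]
    refine secs_ext (g := bs f 1) (F := F) (W := (Opens.map (bs f 1)).obj V.unop) fun w x hx => ?_
    simp only [Fin.val_zero, pow_zero, one_zsmul, Fin.val_one, pow_one, neg_smul]
    exact add_neg_cancel _))

section Local

variable {f}
variable {V : Opens S} (σ : C(V, X)) (hσ : ∀ v : V, f (σ v) = v.1) (F : CohTop.Ab S)

/-- The morphism underlying the contraction. -/
noncomputable def contrMor (p : ℕ) : TopCat.of ((Opens.map (bs f p)).obj V) ⟶ Pw f (p + 1) :=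
  WidePullback.lift
    (TopCat.ofHom ⟨fun w => bs f p w.1, (bs f p).hom.continuous.comp continuous_subtype_val⟩)
    (Fin.cases
      (TopCat.ofHom (σ.comp ⟨fun w => ⟨bs f p w.1, w.2⟩,
        ((bs f p).hom.continuous.comp continuous_subtype_val).subtype_mk _⟩))
      (fun j => TopCat.ofHom ⟨fun w => pr f j w.1, (pr f j).hom.continuous.comp continuous_subtype_val⟩))
    fun i => by
      cases i using Fin.cases with
      | zero => ext w; exact hσ _
      | succ j => ext w; exact f_pr f j w.1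

theorem bs_contrMor (p : ℕ) (w : (Opens.map (bs f p)).obj V) :
    bs f (p + 1) (contrMor σ hσ p w) = bs f p w.1 := by
  change (contrMor σ hσ p ≫ bs f (p + 1)) w = _
  rw [contrMor, WidePullback.lift_base]
  rfl

/-- The contraction over `V`. -/
noncomputable def contr (p : ℕ) : C((Opens.map (bs f p)).obj V, (Opens.map (bs f (p + 1))).obj V) :=
  ⟨fun w => ⟨contrMor σ hσ p w, show bs f (p + 1) (contrMor σ hσ p w) ∈ V from
      (bs_contrMor σ hσ p w).symm ▸ w.2⟩,
    (contrMor σ hσ p).hom.continuous.subtype_mk _⟩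

theorem bs_contr (p : ℕ) (w : (Opens.map (bs f p)).obj V) :
    bs f (p + 1) (contr σ hσ p w).1 = bs f p w.1 :=
  bs_contrMor σ hσ p w

theorem pr_contr_zero (p : ℕ) (w : (Opens.map (bs f p)).obj V) :
    pr f 0 (contr σ hσ p w).1 = σ ⟨bs f p w.1, w.2⟩ := by
  change (contrMor σ hσ p ≫ pr f 0) w = _
  rw [contrMor, WidePullback.lift_π]
  rfl

theorem pr_contr_succ (p : ℕ) (w : (Opens.map (bs f p)).obj V) (j : Fin (p + 1)) :
    pr f j.succ (contr σ hσ p w).1 = pr f j w.1 := by
  change (contrMor σ hσ p ≫ pr f j.succ) w = _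
  rw [contrMor, WidePullback.lift_π]
  rfl

/-- A section as a morphism to the zeroth fibre power. -/
noncomputable def sMor : TopCat.of V ⟶ Pw f 0 :=
  WidePullback.lift (TopCat.ofHom ⟨Subtype.val, continuous_subtype_val⟩)
    (fun _ => TopCat.ofHom σ) (fun _ => by ext w; exact hσ w)

theorem bs_sMor (v : V) : bs f 0 (sMor σ hσ v) = v.1 := by
  change (sMor σ hσ ≫ bs f 0) v = _
  rw [sMor, WidePullback.lift_base]
  rfl

theorem pr_sMor (v : V) (i : Fin 1) : pr f i (sMor σ hσ v) = σ v := by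
  change (sMor σ hσ ≫ pr f i) v = _
  rw [sMor, WidePullback.lift_π]
  rfl

/-- The homotopy. -/
noncomputable def hom' (p : ℕ) :
    secs (bs f (p + 1)) F ((Opens.map (bs f (p + 1))).obj V) →+ secs (bs f p) F ((Opens.map (bs f p)).obj V) :=
  pb (contr σ hσ p) (bs_contr σ hσ p)

theorem hom'_zero (p : ℕ) (t : secs (bs f p) F ((Opens.map (bs f p)).obj V)) :
    hom' σ hσ F p (simpSec f (Fin.succAbove 0) F V t) = t :=
  secs_ext fun w x hx => secs_congr t (pw_ext f fun i => by
    refine (pr_simp' f _ i _).trans ?_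
    rw [Fin.succAbove_zero]
    exact pr_contr_succ σ hσ p w i) x _ _

theorem hom'_succ (p : ℕ) (i : Fin (p + 2)) (t : secs (bs f (p + 1)) F ((Opens.map (bs f (p + 1))).obj V)) :
    hom' σ hσ F (p + 1) (simpSec f (Fin.succAbove i.succ) F V t) =
      simpSec f (Fin.succAbove i) F V (hom' σ hσ F p t) :=
  secs_ext fun w x hx => secs_congr t (pw_ext f fun j => by
    refine (pr_simp' f _ j _).trans ?_
    cases j using Fin.cases with
    | zero =>
      rw [Fin.succ_succAbove_zero]
      refine (pr_contr_zero σ hσ _ _).trans ((pr_contr_zero σ hσ _ _).trans (congrArg σ (Subtype.ext ?_))).symm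
      exact bs_simp' f _ w.1
    | succ j =>
      rw [Fin.succ_succAbove_succ]
      exact (pr_contr_succ σ hσ _ _ _).trans
        ((pr_contr_succ σ hσ _ _ _).trans (pr_simp' f _ _ _)).symm) x _ _

include hσ in
theorem exists_preimage (p : ℕ) (t : secs (bs f (p + 1)) F ((Opens.map (bs f (p + 1))).obj V))
    (ht : ((dd f (p + 1)).app F).hom.app (op V) t = 0) :
    ∃ t', ((dd f p).app F).hom.app (op V) t' = t := by
  refine ⟨hom' σ hσ F p t, ?_⟩
  have h := congrArg (hom' σ hσ F (p + 1)) ((dd_apply f (p + 1) F V t).symm.trans ht)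
  rw [map_sum, map_zero, Fin.sum_univ_succ] at h
  simp only [map_zsmul, hom'_zero, hom'_succ, Fin.val_zero, pow_zero, one_zsmul, Fin.val_succ,
    pow_succ, mul_neg, mul_one, neg_smul, map_neg, map_zsmul, hom'_succ, Finset.sum_neg_distrib] at h
  rw [dd_apply]
  exact (add_neg_eq_zero.1 h).symm

include hσ in
theorem exists_preimage_zero (t : secs (bs f 0) F ((Opens.map (bs f 0)).obj V))
    (ht : ((dd f 0).app F).hom.app (op V) t = 0) :
    ∃ s : F.obj.obj (op V), unitApp (bs f 0) F V s = t := by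
  let l' : C(V, (Opens.map (bs f 0)).obj V) :=
    ⟨fun v => ⟨sMor σ hσ v, show bs f 0 (sMor σ hσ v) ∈ V from (bs_sMor σ hσ v).symm ▸ v.2⟩,
      (sMor σ hσ).hom.continuous.subtype_mk _⟩
  let r : secs (𝟙 S) F V := pb l' (fun v => bs_sMor σ hσ v) t
  obtain ⟨s, hs, -⟩ := existsUnique_section (G := F) V (fun v => r.1 v ⟨v.1, rfl⟩) fun v => by
    obtain ⟨O, s, U, hU, hs⟩ := r.2 v
    refine ⟨O ⊓ U, F.obj.map (homOfLE inf_le_left).op s, ⟨(hs v hU).1, hU⟩, fun w hw => ?_⟩
    rw [gm_res]
    exact ((hs w hw.2).2 w.1 rfl hw.1).symm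
  refine ⟨s, ?_⟩
  have h := congrArg (hom' σ hσ F 0) ((dd_apply f 0 F V t).symm.trans ht)
  rw [map_sum, map_zero, Fin.sum_univ_two] at h
  simp only [map_zsmul, hom'_zero, Fin.val_zero, pow_zero, one_zsmul, Fin.val_one, pow_one, neg_smul, map_neg,
    add_neg_eq_zero] at h
  rw [h]
  refine secs_ext fun w x hx => ?_
  obtain rfl : bs f 0 w.1 = x := hx
  refine (hs ⟨bs f 0 w.1, w.2⟩).trans (secs_congr t (pw_ext f fun i => ?_) _ _ _)
  refine (pr_sMor σ hσ _ i).trans ?_
  refine Eq.trans ?_ (pr_simp' f _ i _).symm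
  rw [Fin.fin_one_eq_zero i, show Fin.succAbove (1 : Fin 2) 0 = 0 from rfl]
  exact (pr_contr_zero σ hσ 0 w).symm

include hσ in
theorem unitApp_injective : Function.Injective (unitApp (bs f 0) F V) := fun s s' h =>
  gm_ext F V s s' fun x hx => by
    exact congrArg (fun t : secs (bs f 0) F ((Opens.map (bs f 0)).obj V) =>
      t.1 ⟨sMor σ hσ ⟨x, hx⟩, show bs f 0 (sMor σ hσ ⟨x, hx⟩) ∈ V from (bs_sMor σ hσ ⟨x, hx⟩).symm ▸ hx⟩
        ⟨x, bs_sMor σ hσ ⟨x, hx⟩⟩) h

end Local

/-- Exactness from local exactness of sections. -/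
theorem exact_of_local (T : ShortComplex (CohTop.Ab S))
    (hloc : ∀ (x : S) (O : Opens S), x ∈ O → ∃ V : Opens S, x ∈ V ∧ V ≤ O ∧ ∀ V' : Opens S, V' ≤ V →
      ∀ t : T.X₂.obj.obj (op V'), T.g.hom.app (op V') t = 0 → ∃ t', T.f.hom.app (op V') t' = t) :
    T.Exact := by
  rw [TopCat.Sheaf.exact_iff_stalkFunctor_map_exact]
  intro x
  rw [ShortComplex.ab_exact_iff]
  intro a ha
  obtain ⟨O, hxO, t, rfl⟩ := exists_gm_eq T.X₂ a
  have ha' : gm T.X₃ O x hxO (T.g.hom.app (op O) t) = gm T.X₃ O x hxO 0 := by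
    rw [map_zero, ← stMap_gm T.g O x hxO t]
    exact ha
  obtain ⟨O', hxO', i₁, i₂, he⟩ := TopCat.Presheaf.germ_eq (C := AddCommGrpCat.{u}) (X := S) T.X₃.obj x
    hxO hxO (T.g.hom.app (op O) t) 0 ha'
  obtain ⟨V, hxV, hVO, hV⟩ := hloc x O' hxO'
  obtain ⟨t', ht'⟩ := hV V le_rfl (T.X₂.obj.map (homOfLE (hVO.trans (leOfHom i₁))).op t) (by
    rw [NatTrans.naturality_apply T.g.hom (homOfLE (hVO.trans (leOfHom i₁))).op t]
    have e : (homOfLE (hVO.trans (leOfHom i₁))).op = i₁.op ≫ (homOfLE hVO).op := rfl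
    rw [e, Functor.map_comp, ConcreteCategory.comp_apply, he, map_zero, map_zero])
  refine ⟨gm T.X₁ V x hxV t', ?_⟩
  exact (stMap_gm T.f V x hxV t').trans ((congrArg (gm T.X₂ V x hxV) ht').trans (gm_res _ _ x hxV t))

end Groth.Agent.TopPullModel
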