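import Groth.Prelude.Def_CohTop
import Mathlib.Topology.Sheaves.SheafCondition.UniqueGluing

/-!
# A concrete model of the inverse image of abelian sheaves

For a continuous map `g : P ⟶ S` and a sheaf `F` on `S`, the sections of `g⁻¹ F` over an open `W` of `P`
are the families of germs `t w ∈ F_x` (`g w = x`) which are locally given by sections of `F`.
-/

set_option autoImplicit false
set_option linter.style.haveILetI false
set_option linter.unusedSectionVars false
set_option backward.isDefEq.respectTransparency false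
set_option backward.isDefEq.respectTransparency.types false

universe u

open CategoryTheory Opposite TopologicalSpace

namespace Groth.Agent.TopPullModel

variable {P Q S : TopCat.{u}}

/-- The germ of a section. -/
noncomputable abbrev gm (F : CohTop.Ab S) (O : Opens S) (x : S) (hx : x ∈ O) : F.obj.obj (op O) →+ CohTop.stalk F x :=
  (TopCat.Presheaf.germ (C := AddCommGrpCat.{u}) (X := S) F.obj O x hx).hom

theorem gm_res (F : CohTop.Ab S) {O O' : Opens S} (h : O' ≤ O) (x : S) (hx : x ∈ O') (s : F.obj.obj (op O)) :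
    gm F O' x hx (F.obj.map (homOfLE h).op s) = gm F O x (h hx) s :=
  TopCat.Presheaf.germ_res_apply (C := AddCommGrpCat.{u}) (X := S) F.obj (homOfLE h) x hx s

theorem gm_ext (F : CohTop.Ab S) (O : Opens S) (s t : F.obj.obj (op O))
    (h : ∀ (x : S) (hx : x ∈ O), gm F O x hx s = gm F O x hx t) : s = t :=
  TopCat.Presheaf.section_ext (C := AddCommGrpCat.{u}) F O s t h

theorem exists_gm_eq (F : CohTop.Ab S) {x : S} (a : CohTop.stalk F x) :
    ∃ (O : Opens S) (hx : x ∈ O) (s : F.obj.obj (op O)), gm F O x hx s = a :=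
  TopCat.Presheaf.exists_germ_eq (C := AddCommGrpCat.{u}) (X := S) F.obj a

variable (g : P ⟶ S) (F : CohTop.Ab S)

/-- Families of germs. -/
abbrev Fam (W : Opens P) : Type u := ∀ w : W, ∀ x : {x : S // g w.1 = x}, CohTop.stalk F x.1

/-- Locally given by sections. -/
def IsLoc {W : Opens P} (t : Fam g F W) : Prop :=
  ∀ w : W, ∃ (O : Opens S) (s : F.obj.obj (op O)) (W' : Opens P), w.1 ∈ W' ∧
    ∀ (v : W), v.1 ∈ W' → g v.1 ∈ O ∧ ∀ (x : S) (hx : g v.1 = x) (hO : x ∈ O), t v ⟨x, hx⟩ = gm F O x hO s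

/-- The group of sections. -/
def secs (W : Opens P) : AddSubgroup (Fam g F W) where
  carrier := {t | IsLoc g F t}
  zero_mem' w := ⟨⊤, 0, ⊤, trivial, fun v _ => ⟨trivial, fun x hx hO => (map_zero _).symm⟩⟩
  add_mem' {a b} ha hb w := by
    obtain ⟨O₁, s₁, W₁, hw₁, h₁⟩ := ha w
    obtain ⟨O₂, s₂, W₂, hw₂, h₂⟩ := hb w
    refine ⟨O₁ ⊓ O₂, F.obj.map (homOfLE inf_le_left).op s₁ + F.obj.map (homOfLE inf_le_right).op s₂,
      W₁ ⊓ W₂, ⟨hw₁, hw₂⟩, fun v hv => ⟨⟨(h₁ v hv.1).1, (h₂ v hv.2).1⟩, fun x hx hO => ?_⟩⟩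
    rw [map_add, gm_res, gm_res, ← (h₁ v hv.1).2 x hx hO.1, ← (h₂ v hv.2).2 x hx hO.2]
    rfl
  neg_mem' {a} ha w := by
    obtain ⟨O, s, W', hw, h⟩ := ha w
    exact ⟨O, -s, W', hw, fun v hv => ⟨(h v hv).1, fun x hx hO => by
      rw [map_neg, ← (h v hv).2 x hx hO]; rfl⟩⟩

variable {g F} in
theorem secs_ext {W : Opens P} {a b : secs g F W} (h : ∀ (w : W) (x : S) (hx : g w.1 = x), a.1 w ⟨x, hx⟩ = b.1 w ⟨x, hx⟩) :
    a = b :=
  Subtype.ext (funext fun w => funext fun x => h w x.1 x.2)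

variable {g F} in
/-- Pulling back sections along a continuous map over `S`. -/
def pb {g' : Q ⟶ S} {W : Opens P} {W' : Opens Q} (τ : C(W', W)) (h : ∀ v : W', g (τ v).1 = g' v.1) :
    secs g F W →+ secs g' F W' where
  toFun t := ⟨fun v x => t.1 (τ v) ⟨x.1, (h v).trans x.2⟩, fun v => by
    obtain ⟨O, s, V, hV, hs⟩ := t.2 (τ v)
    have ho : IsOpen ((fun w : W' => (τ w).1) ⁻¹' (V : Set P)) :=
      V.2.preimage (continuous_subtype_val.comp τ.continuous)
    obtain ⟨V', hV', he⟩ := isOpen_induced_iff.1 ho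
    refine ⟨O, s, ⟨V', hV'⟩, (Set.ext_iff.1 he v).2 hV, fun w hw => ?_⟩
    have hw' : (τ w).1 ∈ V := (Set.ext_iff.1 he w).1 hw
    exact ⟨h w ▸ (hs (τ w) hw').1, fun x hx hO => (hs (τ w) hw').2 x _ hO⟩⟩
  map_zero' := rfl
  map_add' _ _ := rfl

theorem pb_apply {g' : Q ⟶ S} {W : Opens P} {W' : Opens Q} (τ : C(W', W)) (h : ∀ v : W', g (τ v).1 = g' v.1)
    (t : secs g F W) (v : W') (x : S) (hx : g' v.1 = x) :
    (pb τ h t).1 v ⟨x, hx⟩ = t.1 (τ v) ⟨x, (h v).trans hx⟩ := rfl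

/-- The inclusion of opens, as a continuous map. -/
def incl {W W' : Opens P} (h : W' ≤ W) : C(W', W) :=
  ⟨fun v => ⟨v.1, h v.2⟩, continuous_subtype_val.subtype_mk _⟩

/-- The presheaf of sections. -/
noncomputable def pre : TopCat.Presheaf AddCommGrpCat.{u} P where
  obj W := AddCommGrpCat.of (secs g F W.unop)
  map i := AddCommGrpCat.ofHom (pb (incl (leOfHom i.unop)) fun _ => rfl)
  map_id _ := rfl
  map_comp _ _ := rfl

theorem pre_isSheaf : (pre g F).IsSheaf := by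
  rw [TopCat.Presheaf.isSheaf_iff_isSheafUniqueGluing]
  intro ι W sf cpt
  have hc : ∀ (i j : ι) (y : P) (hi : y ∈ W i) (hj : y ∈ W j) (x : S) (hx : g y = x),
      (sf i).1 ⟨y, hi⟩ ⟨x, hx⟩ = (sf j).1 ⟨y, hj⟩ ⟨x, hx⟩ := fun i j y hi hj x hx =>
    congrArg (fun a : secs g F (W i ⊓ W j) => a.1 ⟨y, hi, hj⟩ ⟨x, hx⟩) (cpt i j)
  choose k hk using fun y : (iSup W : Opens P) => Opens.mem_iSup.1 y.2
  refine ⟨⟨fun y x => (sf (k y)).1 ⟨y.1, hk y⟩ x, fun y => ?_⟩, fun i => ?_, fun t ht => ?_⟩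
  · obtain ⟨O, s, V, hV, hs⟩ := (sf (k y)).2 ⟨y.1, hk y⟩
    refine ⟨O, s, V ⊓ W (k y), ⟨hV, hk y⟩, fun v hv => ⟨(hs ⟨v.1, hv.2⟩ hv.1).1, fun x hx hO => ?_⟩⟩
    exact (hc _ (k y) v.1 (hk v) hv.2 x hx).trans ((hs ⟨v.1, hv.2⟩ hv.1).2 x hx hO)
  · exact secs_ext fun y x hx => hc _ i y.1 _ y.2 x hx
  · exact secs_ext fun y x hx =>
      congrArg (fun a : secs g F (W (k y)) => a.1 ⟨y.1, hk y⟩ ⟨x, hx⟩) (ht (k y))

/-- The model of the inverse image. -/
noncomputable def mobj : CohTop.Ab P := ⟨pre g F, pre_isSheaf g F⟩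

/-- The family of germs of a section. -/
noncomputable def unitApp (O : Opens S) : F.obj.obj (op O) →+ secs g F ((Opens.map g).obj O) where
  toFun s := ⟨fun v x => gm F O x.1 (x.2 ▸ v.2) s,
    fun v => ⟨O, s, ⊤, trivial, fun w _ => ⟨w.2, fun x hx hO => rfl⟩⟩⟩
  map_zero' := secs_ext fun _ _ _ => map_zero _
  map_add' a b := secs_ext fun _ _ _ => map_add _ a b

/-- The unit. -/
noncomputable def unit : F ⟶ (CohTop.push g).obj (mobj g F) :=
  ⟨{ app := fun O => AddCommGrpCat.ofHom (unitApp g F O.unop)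
     naturality := fun O O' i => AddCommGrpCat.ext fun s =>
       secs_ext (g := g) (F := F) (W := (Opens.map g).obj O'.unop) fun v x hx =>
         gm_res F (leOfHom i.unop) x _ s }⟩

section Map

variable {F} {G : CohTop.Ab S} (φ : F ⟶ G)

/-- The map on stalks. -/
noncomputable def stMap (x : S) : CohTop.stalk F x →+ CohTop.stalk G x :=
  ((TopCat.Presheaf.stalkFunctor AddCommGrpCat.{u} x).map φ.hom).hom

theorem stMap_gm (O : Opens S) (x : S) (hx : x ∈ O) (s : F.obj.obj (op O)) :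
    stMap φ x (gm F O x hx s) = gm G O x hx (φ.hom.app (op O) s) :=
  TopCat.Presheaf.stalkFunctor_map_germ_apply O x hx φ.hom s

/-- The map on sections. -/
noncomputable def mapApp (W : Opens P) : secs g F W →+ secs g G W where
  toFun t := ⟨fun v x => stMap φ x.1 (t.1 v x), fun v => by
    obtain ⟨O, s, V, hV, hs⟩ := t.2 v
    exact ⟨O, φ.hom.app (op O) s, V, hV, fun w hw => ⟨(hs w hw).1, fun x hx hO =>
      (congrArg (stMap φ x) ((hs w hw).2 x hx hO)).trans (stMap_gm φ O x hO s)⟩⟩⟩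
  map_zero' := secs_ext fun _ _ _ => map_zero _
  map_add' a b := secs_ext fun v x hx => map_add _ (a.1 v ⟨x, hx⟩) (b.1 v ⟨x, hx⟩)

theorem mapApp_apply (W : Opens P) (t : secs g F W) (v : W) (x : S) (hx : g v.1 = x) :
    (mapApp g φ W t).1 v ⟨x, hx⟩ = stMap φ x (t.1 v ⟨x, hx⟩) := rfl

end Map

/-- The model of the inverse image, as a functor. -/
noncomputable def mfun : CohTop.Ab S ⥤ CohTop.Ab P where
  obj F := mobj g F
  map φ := ⟨{ app := fun W => AddCommGrpCat.ofHom (mapApp g φ W.unop)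
              naturality := fun _ _ _ => rfl }⟩
  map_id F := by
    refine Sheaf.hom_ext (NatTrans.ext (funext fun W => AddCommGrpCat.ext fun t =>
      secs_ext fun v x hx => ?_))
    change ((TopCat.Presheaf.stalkFunctor AddCommGrpCat.{u} x).map (𝟙 F.obj)).hom _ = _
    rw [CategoryTheory.Functor.map_id]
    rfl
  map_comp {F G H} φ ψ := by
    refine Sheaf.hom_ext (NatTrans.ext (funext fun W => AddCommGrpCat.ext fun t =>
      secs_ext fun v x hx => ?_))
    change ((TopCat.Presheaf.stalkFunctor AddCommGrpCat.{u} x).map (φ.hom ≫ ψ.hom)).hom _ = _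
    rw [CategoryTheory.Functor.map_comp]
    rfl

end Groth.Agent.TopPullModel
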