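import Groth.Agent.TopPullModel.Adj
import Mathlib.Topology.Sheaves.Flasque
import Mathlib.Topology.IsLocalHomeomorph
import Mathlib.Order.Zorn

/-!
The inverse image of a flasque sheaf along a local homeomorphism is flasque.
-/

set_option autoImplicit false
set_option linter.style.haveILetI false
set_option linter.unusedSectionVars false
set_option backward.isDefEq.respectTransparency false
set_option backward.isDefEq.respectTransparency.types false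

universe u

open CategoryTheory Opposite TopologicalSpace

namespace Groth.Agent.TopPullModel

variable {P S : TopCat.{u}} (g : P ⟶ S) (F : CohTop.Ab S)

theorem res_surjective_of_flasque (I : CohTop.Ab S) [TopCat.Sheaf.IsFlasque I] {V V' : Opens S} (h : V' ≤ V) :
    Function.Surjective (I.obj.map (homOfLE h).op) :=
  (AddCommGrpCat.epi_iff_surjective _).1
    (inferInstanceAs (Epi (I.obj.map (homOfLE h).op)))

/-- Two compatible sections glue. -/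
theorem exists_glue_two {O N : Opens P} (a : secs g F O) (b : secs g F N)
    (h : ∀ (v : P) (hO : v ∈ O) (hN : v ∈ N) (x : {x : S // g v = x}), a.1 ⟨v, hO⟩ x = b.1 ⟨v, hN⟩ x) :
    ∃ c : secs g F (O ⊔ N), (∀ (v : P) (hO : v ∈ O) (x : {x : S // g v = x}),
        c.1 ⟨v, Or.inl hO⟩ x = a.1 ⟨v, hO⟩ x) ∧
      ∀ (v : P) (hN : v ∈ N) (x : {x : S // g v = x}), c.1 ⟨v, Or.inr hN⟩ x = b.1 ⟨v, hN⟩ x := by
  classical
  let c : Fam g F (O ⊔ N) := fun v x =>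
    if hO : v.1 ∈ O then a.1 ⟨v.1, hO⟩ x else b.1 ⟨v.1, v.2.resolve_left hO⟩ x
  have hcO : ∀ (v : P) (hv : v ∈ O ⊔ N) (hO : v ∈ O) (x : {x : S // g v = x}),
      c ⟨v, hv⟩ x = a.1 ⟨v, hO⟩ x := fun v hv hO x => dif_pos hO
  have hcN : ∀ (v : P) (hv : v ∈ O ⊔ N) (hN : v ∈ N) (x : {x : S // g v = x}),
      c ⟨v, hv⟩ x = b.1 ⟨v, hN⟩ x := fun v hv hN x => by
    by_cases hO : v ∈ O
    · exact (hcO v hv hO x).trans (h v hO hN x)
    · exact dif_neg hO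
  refine ⟨⟨c, fun v => ?_⟩, fun v hO x => hcO v _ hO x, fun v hN x => hcN v _ hN x⟩
  rcases v.2 with hv | hv
  · obtain ⟨T, s, V, hV, hs⟩ := a.2 ⟨v.1, hv⟩
    exact ⟨T, s, V ⊓ O, ⟨hV, hv⟩, fun w hw => ⟨(hs ⟨w.1, hw.2⟩ hw.1).1,
      fun x hx hT => (hcO w.1 w.2 hw.2 ⟨x, hx⟩).trans ((hs ⟨w.1, hw.2⟩ hw.1).2 x hx hT)⟩⟩
  · obtain ⟨T, s, V, hV, hs⟩ := b.2 ⟨v.1, hv⟩
    exact ⟨T, s, V ⊓ N, ⟨hV, hv⟩, fun w hw => ⟨(hs ⟨w.1, hw.2⟩ hw.1).1,
      fun x hx hT => (hcN w.1 w.2 hw.2 ⟨x, hx⟩).trans ((hs ⟨w.1, hw.2⟩ hw.1).2 x hx hT)⟩⟩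

variable (hg : IsLocalHomeomorph g) (I : CohTop.Ab S) [TopCat.Sheaf.IsFlasque I]

include hg in
/-- A section extends to a neighbourhood of every point. -/
theorem exists_extend_nhd {O : Opens P} (a : secs g I O) (w : P) :
    ∃ (N : Opens P) (b : secs g I N), w ∈ N ∧
      ∀ (v : P) (hO : v ∈ O) (hN : v ∈ N) (x : {x : S // g v = x}), a.1 ⟨v, hO⟩ x = b.1 ⟨v, hN⟩ x := by
  obtain ⟨e, he, hge⟩ := hg w
  let N : Opens P := ⟨e.source, e.open_source⟩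
  let T : Opens S := ⟨e.target, e.open_target⟩
  let T' : Opens S := ⟨e '' (e.source ∩ (O : Set P)), e.isOpen_image_of_subset_source
    (e.open_source.inter O.2) Set.inter_subset_left⟩
  have hT : T' ≤ T := by
    rintro _ ⟨v, hv, rfl⟩
    exact e.map_source hv.1
  have hgv : ∀ v, g v = e v := fun v => congrFun hge v
  have hsym : ∀ x : T', e.symm x.1 ∈ O ∧ g (e.symm x.1) = x.1 := by
    rintro ⟨_, v, hv, rfl⟩
    exact ⟨by simpa [e.left_inv hv.1] using hv.2, by simp [hgv, e.left_inv hv.1]⟩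
  let G : ∀ x : T', CohTop.stalk I x.1 := fun x =>
    a.1 ⟨e.symm x.1, (hsym x).1⟩ ⟨x.1, (hsym x).2⟩
  obtain ⟨s', hs', -⟩ := existsUnique_section (G := I) T' G fun x => by
    obtain ⟨T₀, s, V, hV, hs⟩ := a.2 ⟨e.symm x.1, (hsym x).1⟩
    let T₁ : Opens S := ⟨e '' (e.source ∩ ((V : Set P) ∩ (O : Set P))), e.isOpen_image_of_subset_source
      (e.open_source.inter (V.2.inter O.2)) Set.inter_subset_left⟩
    have hle : T₁ ≤ T₀ := by
      rintro _ ⟨v, hv, rfl⟩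
      exact hgv v ▸ (hs ⟨v, hv.2.2⟩ hv.2.1).1
    refine ⟨T₁, I.obj.map (homOfLE hle).op s, ?_, fun y hy => ?_⟩
    · exact ⟨e.symm x.1, ⟨e.map_target (hT x.2), hV, (hsym x).1⟩, e.right_inv (hT x.2)⟩
    · rw [gm_res]
      have hyV : e.symm y.1 ∈ V := by
        obtain ⟨v, hv, hvy⟩ := hy
        rw [← hvy, e.left_inv hv.1]
        exact hv.2.1
      exact ((hs ⟨e.symm y.1, (hsym y).1⟩ hyV).2 y.1 (hsym y).2 (hle hy)).symm
  obtain ⟨s, hs⟩ := res_surjective_of_flasque I hT s'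
  have hNT : N ≤ (Opens.map g).obj T := fun v hv => show g v ∈ T from (hgv v).symm ▸ e.map_source hv
  refine ⟨N, pb (incl hNT) (fun _ => rfl) (unitApp g I T s), he, fun v hO hN x => ?_⟩
  obtain ⟨x, hx⟩ := x
  have hx' : x = e v := hx.symm.trans (hgv v)
  subst hx'
  have hv' : e v ∈ T' := ⟨v, ⟨hN, hO⟩, rfl⟩
  refine Eq.trans ?_ ((congrArg (gm I T' (e v) hv') hs).symm.trans (gm_res I hT (e v) hv' s))
  rw [hs' ⟨e v, hv'⟩]
  have key : ∀ (u : P) (hu : u ∈ O) (hgu : g u = e v), u = v → a.1 ⟨v, hO⟩ ⟨e v, hx⟩ = a.1 ⟨u, hu⟩ ⟨e v, hgu⟩ := by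
    rintro u hu hgu rfl
    rfl
  exact key _ _ _ (e.left_inv hN)

/-- One partial section extends another. -/
def RelExt (q q' : Σ O : Opens P, secs g F O) : Prop :=
  ∃ h : q.1 ≤ q'.1, pb (incl h) (fun _ => rfl) q'.2 = q.2

theorem RelExt.trans' {a b c : Σ O : Opens P, secs g F O} (hab : RelExt g F a b) (hbc : RelExt g F b c) :
    RelExt g F a c := by
  obtain ⟨h₁, e₁⟩ := hab
  obtain ⟨h₂, e₂⟩ := hbc
  refine ⟨h₁.trans h₂, ?_⟩
  rw [← e₁, ← e₂]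
  rfl

theorem RelExt.apply {q q' : Σ O : Opens P, secs g F O} (h : RelExt g F q q') (v : P) (hv : v ∈ q.1)
    (x : {x : S // g v = x}) : q'.2.1 ⟨v, h.1 hv⟩ x = q.2.1 ⟨v, hv⟩ x :=
  congrArg (fun a : secs g F q.1 => a.1 ⟨v, hv⟩ x) h.2

include hg in
theorem exists_extension {W' W : Opens P} (h : W' ≤ W) (t : secs g I W') :
    ∃ T : secs g I W, pb (incl h) (fun _ => rfl) T = t := by
  classical
  let E := {q : Σ O : Opens P, secs g I O // q.1 ≤ W ∧ RelExt g I ⟨W', t⟩ q}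
  obtain ⟨m, hm⟩ := exists_maximal_of_chains_bounded (r := fun q q' : E => RelExt g I q.1 q'.1) (fun c hc => by
    rcases c.eq_empty_or_nonempty with rfl | ⟨q₀, hq₀⟩
    · exact ⟨⟨⟨W', t⟩, h, le_rfl, rfl⟩, fun a ha => ha.elim⟩
    have hcomp : ∀ q ∈ c, ∀ q' ∈ c, ∀ (v : P) (hv : v ∈ q.1.1) (hv' : v ∈ q'.1.1) (x : {x : S // g v = x}),
        q.1.2.1 ⟨v, hv⟩ x = q'.1.2.1 ⟨v, hv'⟩ x := fun q hq q' hq' v hv hv' x => by
      rcases eq_or_ne q q' with rfl | hne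
      · rfl
      rcases hc hq hq' hne with hr | hr
      exacts [(RelExt.apply g I hr v hv x).symm, RelExt.apply g I hr v hv' x]
    let U : Opens P := ⨆ q : c, q.1.1.1
    choose k hk using fun v : U => Opens.mem_iSup.1 v.2
    let T : Fam g I U := fun v x => (k v).1.1.2.1 ⟨v.1, hk v⟩ x
    have hT : IsLoc g I T := fun v => by
      obtain ⟨O, s, V, hV, hs⟩ := (k v).1.1.2.2 ⟨v.1, hk v⟩
      refine ⟨O, s, V ⊓ (k v).1.1.1, ⟨hV, hk v⟩, fun w hw => ⟨(hs ⟨w.1, hw.2⟩ hw.1).1, fun x hx hO => ?_⟩⟩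
      exact (hcomp _ (k w).2 _ (k v).2 w.1 (hk w) hw.2 ⟨x, hx⟩).trans ((hs ⟨w.1, hw.2⟩ hw.1).2 x hx hO)
    have hle : ∀ q : c, q.1.1.1 ≤ U := fun q => le_iSup (fun q : c => q.1.1.1) q
    obtain ⟨h₀, ht₀⟩ := q₀.2.2
    refine ⟨⟨⟨U, ⟨T, hT⟩⟩, iSup_le fun q => q.1.2.1, h₀.trans (hle ⟨q₀, hq₀⟩), ?_⟩, fun q hq =>
      ⟨hle ⟨q, hq⟩, secs_ext fun v x hx => hcomp _ (k _).2 q hq v.1 (hk _) v.2 ⟨x, hx⟩⟩⟩
    refine secs_ext fun v x hx => ?_
    exact (hcomp _ (k _).2 q₀ hq₀ v.1 (hk _) (h₀ v.2) ⟨x, hx⟩).trans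
      (congrArg (fun a : secs g I W' => a.1 v ⟨x, hx⟩) ht₀))
    (fun {a b c} hab hbc => RelExt.trans' g I hab hbc)
  obtain ⟨⟨O, a⟩, hO, hW', ha⟩ := m
  have hWO : W ≤ O := fun w hw => by
    obtain ⟨N, b, hwN, hb⟩ := exists_extend_nhd g hg I a w
    obtain ⟨c, hcO, -⟩ := exists_glue_two g I a (pb (incl (inf_le_left : N ⊓ W ≤ N)) (fun _ => rfl) b)
      (fun v hv hv' x => hb v hv hv'.1 x)
    obtain ⟨hle, -⟩ := hm ⟨⟨O ⊔ N ⊓ W, c⟩, sup_le hO inf_le_right, hW'.trans le_sup_left, secs_ext fun v x hx => (hcO v.1 (hW' v.2) ⟨x, hx⟩).trans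
        (congrArg (fun a : secs g I W' => a.1 v ⟨x, hx⟩) ha)⟩
      ⟨le_sup_left, secs_ext fun v x hx => hcO v.1 v.2 ⟨x, hx⟩⟩
    exact hle (Or.inr ⟨hwN, hw⟩)
  exact ⟨pb (incl hWO) (fun _ => rfl) a, ha⟩

include hg in
/-- The inverse image of a flasque sheaf along a local homeomorphism is flasque. -/
theorem isFlasque_mobj : TopCat.Sheaf.IsFlasque (mobj g I) :=
  ⟨fun {W W'} i => (AddCommGrpCat.epi_iff_surjective _).2 fun t => by
    obtain ⟨T, hT⟩ := exists_extension g hg I (leOfHom i.unop) t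
    exact ⟨T, hT⟩⟩

end Groth.Agent.TopPullModel
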