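import Groth.Agent.TopPullModel.Descent
import Groth.Agent.GrothSS.PageOneFun
import Groth.Agent.GrothSS.AcyclicExact
import Groth.Agent.GrothSS.SupportSS
import Groth.Agent.CohTopDesc.Retract
import Groth.Agent.SiteCoh.Cartan
import Groth.Agent.DerExt.Coyoneda
import Groth.Agent.SiteCoh.Terminal
import Groth.Agent.S0454

/-!
The descent spectral sequence of a surjective local homeomorphism.
-/

set_option autoImplicit false
set_option linter.style.haveILetI false
set_option linter.unusedSectionVars false
set_option backward.isDefEq.respectTransparency false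
set_option backward.isDefEq.respectTransparency.types false

universe u

open CategoryTheory Category Limits Opposite TopologicalSpace Abelian

namespace Groth.Agent.TopPullModel

variable {X S : TopCat.{u}} (f : X ⟶ S)

theorem exists_local_section (hf : IsLocalHomeomorph f) (hsurj : Function.Surjective f) (x : S) (O : Opens S)
    (hx : x ∈ O) :
    ∃ V : Opens S, x ∈ V ∧ V ≤ O ∧ ∃ σ : C(V, X), ∀ v : V, f (σ v) = v.1 := by
  obtain ⟨y, rfl⟩ := hsurj x
  obtain ⟨e, hy, he⟩ := hf y
  let V : Opens S := ⟨e.target, e.open_target⟩ ⊓ O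
  refine ⟨V, ⟨congrFun he y ▸ e.map_source hy, hx⟩, inf_le_right, ⟨fun v => e.symm v.1, ?_⟩, fun v => ?_⟩
  · exact e.continuousOn_symm.comp_continuous continuous_subtype_val fun v => v.2.1
  · change f (e.symm v.1) = v.1
    rw [congrFun he]
    exact e.right_inv v.2.1

theorem isLocalHomeomorph_bs (hf : IsLocalHomeomorph f) (p : ℕ) : IsLocalHomeomorph (bs f p) := by
  intro w
  choose e he hfe using fun i : Fin (p + 1) => hf (pr f i w)
  let N : Set (Pw f p) := ⋂ i, pr f i ⁻¹' (e i).source
  let T : Set S := ⋂ i, (e i).target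
  have hN : IsOpen N := isOpen_iInter_of_finite fun i => (e i).open_source.preimage (pr f i).hom.continuous
  have hT : IsOpen T := isOpen_iInter_of_finite fun i => (e i).open_target
  let Ts : TopCat.{u} := TopCat.of T
  let l : Ts ⟶ Pw f p := WidePullback.lift (TopCat.ofHom ⟨Subtype.val, continuous_subtype_val⟩ : Ts ⟶ S)
    (fun i => (TopCat.ofHom ⟨fun v => (e i).symm v.1,
      (e i).continuousOn_symm.comp_continuous continuous_subtype_val fun v => Set.mem_iInter.1 v.2 i⟩ : Ts ⟶ X))
    (fun i => by
      ext v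
      change f ((e i).symm v.1) = v.1
      rw [congrFun (hfe i)]
      exact (e i).right_inv (Set.mem_iInter.1 v.2 i))
  have hl₁ : ∀ v : T, bs f p (l v) = v.1 := fun v => by
    change (l ≫ bs f p) v = _
    rw [WidePullback.lift_base]
    rfl
  have hl₂ : ∀ (v : T) (i : Fin (p + 1)), pr f i (l v) = (e i).symm v.1 := fun v i => by
    change (l ≫ pr f i) v = _
    rw [WidePullback.lift_π]
    rfl
  have hNT : ∀ v ∈ N, bs f p v ∈ T := fun v hv => Set.mem_iInter.2 fun i => by
    rw [← f_pr f i v, congrFun (hfe i)]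
    exact (e i).map_source (Set.mem_iInter.1 hv i)
  classical
  let inv : S → Pw f p := fun x => if hx : x ∈ T then l ⟨x, hx⟩ else w
  have hinv : ∀ (x : S) (hx : x ∈ T), inv x = l ⟨x, hx⟩ := fun x hx => dif_pos hx
  let E : OpenPartialHomeomorph (Pw f p) S :=
    { toFun := bs f p
      invFun := inv
      source := N
      target := T
      map_source' := hNT
      map_target' := fun x hx => Set.mem_iInter.2 fun i => by
        change pr f i (inv x) ∈ (e i).source
        rw [hinv x hx, hl₂]
        exact (e i).map_target (Set.mem_iInter.1 hx i)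
      left_inv' := fun v hv => by
        rw [hinv _ (hNT v hv)]
        refine pw_ext f fun i => ?_
        rw [hl₂]
        change (e i).symm (bs f p v) = pr f i v
        rw [show bs f p v = e i (pr f i v) by rw [← congrFun (hfe i), f_pr]]
        exact (e i).left_inv (Set.mem_iInter.1 hv i)
      right_inv' := fun x hx => by rw [hinv x hx]; exact hl₁ _
      open_source := hN
      open_target := hT
      continuousOn_toFun := (bs f p).hom.continuous.continuousOn
      continuousOn_invFun := by
        rw [continuousOn_iff_continuous_domRestrict]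
        exact l.hom.continuous.congr fun v => (hinv v.1 v.2).symm }
  exact ⟨E, Set.mem_iInter.2 he, rfl⟩

/-- Maps out of the constant sheaf on the integers. -/
noncomputable abbrev gam (X : TopCat.{u}) : CohTop.Ab X ⥤ AddCommGrpCat.{u} :=
  preadditiveCoyoneda.obj (op ((constantSheaf (Opens.grothendieckTopology X) AddCommGrpCat.{u}).obj
    (AddCommGrpCat.of (ULift.{u} ℤ))))

/-- The derived functors of global sections. -/
noncomputable def gamDerived {Y : TopCat.{u}} (n : ℕ) (G : CohTop.Ab Y) :
    ((gam Y).rightDerived n).obj G ≅ AddCommGrpCat.of (CohTop.H G n) :=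
  (DerExt.rightDerivedIso _ n).app G

theorem isZero_gamDerived_of_flasque {Y : TopCat.{u}} (G : CohTop.Ab Y) [TopCat.Sheaf.IsFlasque G] (q : ℕ) :
    IsZero (((gam Y).rightDerived (q + 1)).obj G) := by
  have := Groth.Agent.SiteCoh.flasque_acyclic G ⊤ q
  have h : Subsingleton (CohTop.H G (q + 1)) :=
    (Groth.Agent.SiteCoh.huTerminalEquiv _ (T := (⊤ : Opens Y)) isTerminalTop G (q + 1)).toEquiv.subsingleton
  exact (AddCommGrpCat.isZero_of_subsingleton (AddCommGrpCat.of (CohTop.H G (q + 1)))).of_iso (gamDerived (q + 1) G)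

/-- Global sections of a direct image. -/
noncomputable def pushGamIso {P Q : TopCat.{u}} (g : P ⟶ Q) : CohTop.push g ⋙ gam Q ≅ gam P :=
  NatIso.ofComponents (fun G =>
    AddEquiv.toAddCommGrpIso
      (X := AddCommGrpCat.of (_ ⟶ (CohTop.push g).obj G)) (Y := AddCommGrpCat.of (_ ⟶ G))
      { toEquiv := ((CohTopDesc.adj g).homEquiv _ G).symm.trans (CohTopDesc.pullConst g).homFromEquiv
        map_add' := fun a b => by
          simp only [Equiv.toFun_as_coe, Equiv.trans_apply, Iso.homFromEquiv_apply, Adjunction.homEquiv_counit,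
            Functor.map_add, Preadditive.add_comp, Preadditive.comp_add] })
    fun {G G'} h => by
      ext a
      change (CohTopDesc.pullConst g).inv ≫ ((CohTopDesc.adj g).homEquiv _ G').symm (a ≫ (CohTop.push g).map h) =
        ((CohTopDesc.pullConst g).inv ≫ ((CohTopDesc.adj g).homEquiv _ G).symm a) ≫ h
      rw [Adjunction.homEquiv_naturality_right_symm, assoc]

instance mfun_preservesFiniteLimits {P : TopCat.{u}} (g : P ⟶ S) : PreservesFiniteLimits (mfun g) :=
  preservesFiniteLimits_of_natIso (mfunIso g).symm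

instance mfun_preservesFiniteColimits {P : TopCat.{u}} (g : P ⟶ S) : PreservesFiniteColimits (mfun g) := by
  haveI := (madj g).leftAdjoint_preservesColimits
  infer_instance

instance mfun_additive {P : TopCat.{u}} (g : P ⟶ S) : (mfun g).Additive := (madj g).left_adjoint_additive

variable (hf : IsLocalHomeomorph f)

instance gam_preservesFiniteLimits (Y : TopCat.{u}) : PreservesFiniteLimits (gam Y) := inferInstance

include hf in
theorem nonempty_Cp_derived (F : CohTop.Ab S) (p q : ℕ) :
    Nonempty (((Cp f p ⋙ gam S).rightDerived q).obj F ≅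
      AddCommGrpCat.of (CohTop.H ((CohTop.pull (bs f p)).obj F) q)) := by
  let e : Cp f p ⋙ gam S ≅ mfun (bs f p) ⋙ gam (Pw f p) :=
    Functor.associator _ _ _ ≪≫ Functor.isoWhiskerLeft (mfun (bs f p)) (pushGamIso (bs f p))
  obtain ⟨i⟩ := GrothSS.nonempty_rightDerived_comp_acyclic (mfun (bs f p)) (gam (Pw f p)) (fun Q hQ r hr => by
    obtain ⟨r, rfl⟩ : ∃ r', r = r' + 1 := ⟨r - 1, by omega⟩
    haveI := hQ
    haveI : TopCat.Sheaf.IsFlasque Q := S0454.result Q
    haveI : TopCat.Sheaf.IsFlasque ((mfun (bs f p)).obj Q) :=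
      isFlasque_mobj (bs f p) (isLocalHomeomorph_bs f hf p) Q
    exact isZero_gamDerived_of_flasque _ r) q F
  exact ⟨(GrothSS.rightDerivedMapIso e q).app F ≪≫ i ≪≫
    ((gam (Pw f p)).rightDerived q).mapIso ((mfunIso (bs f p)).app F) ≪≫ gamDerived q _⟩

variable (hsurj : Function.Surjective f)

set_option maxHeartbeats 1600000 in
include hf hsurj in
/-- The descent spectral sequence. -/
theorem descent_ss_of_localHomeomorph (F : CohTop.Ab S) :
    ∃ (E : CohomologicalSpectralSequence AddCommGrpCat.{u} 1) (a : SpSeq.Abutment E (fun n : ℤ => if 0 ≤ n then AddCommGrpCat.of (CohTop.H F n.toNat) else AddCommGrpCat.of PUnit.{u + 1})), (∀ n, a.IsFinite n) ∧ SpSeq.IsBounded E ∧ ∀ p q : ℤ, Nonempty ((E.page 1 le_rfl).X (p, q) ≅ (if 0 ≤ p ∧ 0 ≤ q then AddCommGrpCat.of (CohTop.H ((CohTop.pull (WidePullback.base (fun _ : Fin (p.toNat + 1) => f) : widePullback S (fun _ : Fin (p.toNat + 1) => X) (fun _ => f) ⟶ S)).obj F) q.toNat) else AddCommGrpCat.of PUnit.{u + 1})) := by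
  have hε : ∀ I : CohTop.Ab S, Mono ((aug f).app I) := fun I => by
    refine ⟨fun {T} a b h => Sheaf.hom_ext (NatTrans.ext (funext fun W => AddCommGrpCat.ext fun t =>
      gm_ext I W.unop _ _ fun x hx => ?_))⟩
    obtain ⟨V, hxV, hVW, σ, hσ⟩ := exists_local_section f hf hsurj x W.unop hx
    rw [← gm_res I hVW x hxV, ← gm_res I hVW x hxV]
    refine congrArg _ (unitApp_injective σ hσ I ?_)
    exact ((congrArg (unitApp (bs f 0) I V) (NatTrans.naturality_apply a.hom (homOfLE hVW).op t)).symm.trans
      (ConcreteCategory.congr_hom (congrArg (fun k => k.hom.app (op V)) h) (T.obj.map (homOfLE hVW).op t))).trans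
      (congrArg (unitApp (bs f 0) I V) (NatTrans.naturality_apply b.hom (homOfLE hVW).op t))
  have h0 : ∀ I : CohTop.Ab S, (ShortComplex.mk ((aug f).app I) ((dd f 0).app I) (aug_dd f I)).Exact := fun I =>
    exact_of_local _ fun x O hx => by
      obtain ⟨V, hxV, hVO, σ, hσ⟩ := exists_local_section f hf hsurj x O hx
      exact ⟨V, hxV, hVO, fun V' hV' t ht =>
        exists_preimage_zero (σ.comp ⟨fun v : V' => ⟨v.1, hV' v.2⟩, continuous_subtype_val.subtype_mk _⟩)
          (fun v => hσ ⟨v.1, hV' v.2⟩) I t ht⟩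
  have hex : ∀ (p : ℕ) (I : CohTop.Ab S),
      (ShortComplex.mk ((dd f p).app I) ((dd f (p + 1)).app I) (dd_dd f p I)).Exact := fun p I =>
    exact_of_local _ fun x O hx => by
      obtain ⟨V, hxV, hVO, σ, hσ⟩ := exists_local_section f hf hsurj x O hx
      exact ⟨V, hxV, hVO, fun V' hV' t ht =>
        exists_preimage (σ.comp ⟨fun v : V' => ⟨v.1, hV' v.2⟩, continuous_subtype_val.subtype_mk _⟩)
          (fun v => hσ ⟨v.1, hV' v.2⟩) I p t ht⟩
  have key : ∀ I : CohTop.Ab S, Injective I →
      (ShortComplex.mk ((gam S).map ((aug f).app I)) ((gam S).map ((dd f 0).app I))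
        (by rw [← Functor.map_comp, aug_dd, Functor.map_zero])).Exact ∧
      ∀ p, (ShortComplex.mk ((gam S).map ((dd f p).app I)) ((gam S).map ((dd f (p + 1)).app I))
        (by rw [← Functor.map_comp, dd_dd, Functor.map_zero])).Exact := fun I hI => by
    haveI := hI
    haveI : TopCat.Sheaf.IsFlasque I := S0454.result I
    refine GrothSS.exact_map_of_acyclic_resolution (gam S) (fun p => (Cp f p).obj I)
      (fun p => (dd f p).app I) (fun p => dd_dd f p I) I ((aug f).app I) (aug_dd f I) (hε I) (h0 I)
      (fun p => hex p I) (fun q => isZero_gamDerived_of_flasque I q) (fun p q => ?_)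
    haveI : TopCat.Sheaf.IsFlasque ((mfun (bs f p)).obj I) :=
      isFlasque_mobj (bs f p) (isLocalHomeomorph_bs f hf p) I
    haveI : TopCat.Sheaf.IsFlasque ((Cp f p).obj I) :=
      TopCat.Sheaf.IsFlasque.pushforward_isFlasque ((mfun (bs f p)).obj I) (bs f p)
    exact isZero_gamDerived_of_flasque _ q
  refine GrothSS.exists_pageOne_functors (gam S) (fun p => Cp f p ⋙ gam S)
    ((Functor.leftUnitor (gam S)).inv ≫ Functor.whiskerRight (aug f) (gam S))
    (fun p => Functor.whiskerRight (dd f p) (gam S)) (fun I => ?_)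
    (fun p I => by
      change (gam S).map _ ≫ (gam S).map _ = 0
      rw [← Functor.map_comp, dd_dd, Functor.map_zero])
    (fun I hI => ?_) (fun I hI => ?_) (fun p I hI => (key I hI).2 p) F
    (fun n => AddCommGrpCat.of (CohTop.H F n))
    (fun p q => AddCommGrpCat.of (CohTop.H ((CohTop.pull (bs f p)).obj F) q))
    _ (AddCommGrpCat.isZero_of_subsingleton _) (fun n => ⟨gamDerived n F⟩)
    (fun p q => nonempty_Cp_derived f hf F p q)
  · change (𝟙 _ ≫ (gam S).map _) ≫ (gam S).map _ = 0
    rw [id_comp, ← Functor.map_comp, aug_dd, Functor.map_zero]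
  · haveI := hε I
    change Mono (𝟙 _ ≫ (gam S).map ((aug f).app I))
    rw [id_comp]
    infer_instance
  · refine (ShortComplex.exact_iff_of_iso ?_).2 (key I hI).1
    exact ShortComplex.isoMk (Iso.refl _) (Iso.refl _) (Iso.refl _) (by simp) (by simp)

end Groth.Agent.TopPullModel
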