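import Groth.Agent.TopPullModel.Basic

/-!
The model of the inverse image is left adjoint to the direct image.
-/

set_option autoImplicit false
set_option linter.style.haveILetI false
set_option linter.unusedSectionVars false
set_option backward.isDefEq.respectTransparency false
set_option backward.isDefEq.respectTransparency.types false

universe u

open CategoryTheory Opposite TopologicalSpace

namespace Groth.Agent.TopPullModel

variable {P S : TopCat.{u}} (g : P ⟶ S)

/-- Sections with prescribed germs glue. -/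
theorem existsUnique_section {G : CohTop.Ab P} (W : Opens P) (a : ∀ v : W, CohTop.stalk G v.1)
    (ha : ∀ v : W, ∃ (W' : Opens P) (s : G.obj.obj (op W')) (_ : v.1 ∈ W'),
      ∀ (w : W) (hw : w.1 ∈ W'), gm G W' w.1 hw s = a w) :
    ∃! s : G.obj.obj (op W), ∀ v : W, gm G W v.1 v.2 s = a v := by
  choose W' s hv hs using ha
  let U : W → Opens P := fun v => W' v ⊓ W
  obtain ⟨t, ht, -⟩ := TopCat.Sheaf.existsUnique_gluing' (C := AddCommGrpCat.{u}) G U W
    (fun v => homOfLE inf_le_right) (fun x hx => Opens.mem_iSup.2 ⟨⟨x, hx⟩, hv ⟨x, hx⟩, hx⟩)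
    (fun v => G.obj.map (homOfLE (inf_le_left : U v ≤ W' v)).op (s v)) (fun v v' => gm_ext G _ _ _ fun x hx => by
      refine (gm_res G (inf_le_left : U v ⊓ U v' ≤ U v) x hx _).trans ?_
      refine Eq.trans ?_ (gm_res G (inf_le_right : U v ⊓ U v' ≤ U v') x hx _).symm
      rw [gm_res, gm_res]
      exact (hs v ⟨x, hx.1.2⟩ hx.1.1).trans (hs v' ⟨x, hx.1.2⟩ hx.2.1).symm)
  have key : ∀ v : W, gm G W v.1 v.2 t = a v := fun v => by
    rw [← gm_res G (inf_le_right : U v ≤ W) v.1 ⟨hv v, v.2⟩ t,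
      show G.obj.map (homOfLE (inf_le_right : U v ≤ W)).op t = _ from ht v, gm_res]
    exact hs v v (hv v)
  exact ⟨t, key, fun t' ht' => gm_ext G W t' t fun x hx => (ht' ⟨x, hx⟩).trans (key ⟨x, hx⟩).symm⟩

variable {F : CohTop.Ab S} {G : CohTop.Ab P} (ψ : F ⟶ (CohTop.push g).obj G)

/-- The map on stalks adjoint to `ψ`. -/
noncomputable def adjSt (v : P) (x : {x : S // g v = x}) : CohTop.stalk F x.1 →+ CohTop.stalk G v :=
  ((eqToHom (congrArg (CohTop.stalk F) x.2.symm)) ≫
    (TopCat.Presheaf.stalkFunctor AddCommGrpCat.{u} (g v)).map ψ.hom ≫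
    TopCat.Presheaf.stalkPushforward AddCommGrpCat.{u} g G.obj v).hom

theorem adjSt_gm (v : P) (x : {x : S // g v = x}) (O : Opens S) (hx : x.1 ∈ O) (s : F.obj.obj (op O)) :
    adjSt g ψ v x (gm F O x.1 hx s) =
      gm G ((Opens.map g).obj O) v (show g v ∈ O from x.2.symm ▸ hx) (ψ.hom.app (op O) s) := by
  obtain ⟨x, hgv⟩ := x
  subst hgv
  change (TopCat.Presheaf.stalkPushforward AddCommGrpCat.{u} g G.obj v).hom
    (((TopCat.Presheaf.stalkFunctor AddCommGrpCat.{u} (g v)).map ψ.hom).hom (gm F O (g v) hx s)) = _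
  rw [stMap_gm_aux]
  exact ConcreteCategory.congr_hom (TopCat.Presheaf.stalkPushforward_germ AddCommGrpCat.{u} g G.obj O v hx) _
where
  stMap_gm_aux {O : Opens S} {x : S} {hx : x ∈ O} {s : F.obj.obj (op O)} :
      ((TopCat.Presheaf.stalkFunctor AddCommGrpCat.{u} x).map ψ.hom).hom (gm F O x hx s) =
        gm ((CohTop.push g).obj G) O x hx (ψ.hom.app (op O) s) :=
    stMap_gm ψ O x hx s

theorem exists_extApp (W : Opens P) (t : secs g F W) :
    ∃! s : G.obj.obj (op W), ∀ v : W, gm G W v.1 v.2 s = adjSt g ψ v.1 ⟨g v.1, rfl⟩ (t.1 v ⟨g v.1, rfl⟩) := by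
  refine existsUnique_section W _ fun v => ?_
  obtain ⟨O, s, V, hV, hs⟩ := t.2 v
  refine ⟨(Opens.map g).obj O ⊓ V, G.obj.map (homOfLE inf_le_left).op (ψ.hom.app (op O) s),
    ⟨(hs v hV).1, hV⟩, fun w hw => ?_⟩
  rw [gm_res, (hs w hw.2).2 _ rfl hw.1, adjSt_gm]

/-- The adjoint map on sections. -/
noncomputable def extApp (W : Opens P) : secs g F W →+ G.obj.obj (op W) :=
  AddMonoidHom.mk' (fun t => (exists_extApp g ψ W t).choose) fun a b => by
    refine ((exists_extApp g ψ W (a + b)).choose_spec.2 _ fun v => ?_).symm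
    rw [map_add, (exists_extApp g ψ W a).choose_spec.1, (exists_extApp g ψ W b).choose_spec.1, ← map_add]
    rfl

theorem gm_extApp (W : Opens P) (t : secs g F W) (v : W) :
    gm G W v.1 v.2 (extApp g ψ W t) = adjSt g ψ v.1 ⟨g v.1, rfl⟩ (t.1 v ⟨g v.1, rfl⟩) :=
  (exists_extApp g ψ W t).choose_spec.1 v

/-- The adjoint morphism. -/
noncomputable def ext' : mobj g F ⟶ G :=
  ⟨{ app := fun W => AddCommGrpCat.ofHom (extApp g ψ W.unop)
     naturality := fun W W' i => AddCommGrpCat.ext fun t => gm_ext G W'.unop _ _ fun x hx => by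
       refine (gm_extApp g ψ W'.unop _ ⟨x, hx⟩).trans ?_
       refine Eq.trans ?_ (gm_res G (leOfHom i.unop) x hx (extApp g ψ W.unop t)).symm
       exact (gm_extApp g ψ W.unop t ⟨x, leOfHom i.unop hx⟩).symm }⟩

theorem unit_ext' : unit g F ≫ (CohTop.push g).map (ext' g ψ) = ψ := by
  refine Sheaf.hom_ext (NatTrans.ext (funext fun O => AddCommGrpCat.ext fun s =>
    gm_ext G ((Opens.map g).obj O.unop) _ _ fun v hv => ?_))
  refine (gm_extApp g ψ ((Opens.map g).obj O.unop) (unitApp g F O.unop s) ⟨v, hv⟩).trans ?_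
  exact adjSt_gm g ψ v ⟨g v, rfl⟩ O.unop hv s

theorem hom_ext {φ φ' : mobj g F ⟶ G}
    (h : unit g F ≫ (CohTop.push g).map φ = unit g F ≫ (CohTop.push g).map φ') : φ = φ' := by
  refine Sheaf.hom_ext (NatTrans.ext (funext fun W => AddCommGrpCat.ext fun t =>
    gm_ext G W.unop _ _ fun v hv => ?_))
  obtain ⟨O, s, V, hV, hs⟩ := t.2 ⟨v, hv⟩
  let W' : Opens P := V ⊓ W.unop
  have hle : W' ≤ (Opens.map g).obj O := fun w hw => (hs ⟨w, hw.2⟩ hw.1).1
  have e : (pre g F).map (homOfLE (inf_le_right : W' ≤ W.unop)).op t =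
      (pre g F).map (homOfLE hle).op (unitApp g F O s) :=
    secs_ext (g := g) (F := F) (W := W') fun w x hx => (hs ⟨w.1, w.2.2⟩ w.2.1).2 x hx _
  have key : ∀ χ : mobj g F ⟶ G, gm G W.unop v hv (χ.hom.app W t) =
      gm G ((Opens.map g).obj O) v (hle ⟨hV, hv⟩)
        ((unit g F ≫ (CohTop.push g).map χ).hom.app (op O) s) := fun χ =>
    ((gm_res G (inf_le_right : W' ≤ W.unop) v ⟨hV, hv⟩ (χ.hom.app W t)).symm.trans
      ((congrArg (gm G W' v ⟨hV, hv⟩)
        (NatTrans.naturality_apply χ.hom (homOfLE (inf_le_right : W' ≤ W.unop)).op t)).symm.trans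
        ((congrArg (fun z => gm G W' v ⟨hV, hv⟩ (χ.hom.app (op W') z)) e).trans
          ((congrArg (gm G W' v ⟨hV, hv⟩)
            (NatTrans.naturality_apply χ.hom (homOfLE hle).op (unitApp g F O s))).trans
            (gm_res G hle v _ _)))))
  rw [key φ, key φ', h]

theorem unit_naturality {F' : CohTop.Ab S} (φ : F ⟶ F') :
    φ ≫ unit g F' = unit g F ≫ (CohTop.push g).map ((mfun g).map φ) :=
  Sheaf.hom_ext (NatTrans.ext (funext fun O => AddCommGrpCat.ext fun s =>
    secs_ext (g := g) (F := F') (W := (Opens.map g).obj O.unop) fun v x hx =>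
      (stMap_gm φ O.unop x _ s).symm))

/-- The model is left adjoint to the direct image. -/
noncomputable def madj : mfun g ⊣ CohTop.push g :=
  Adjunction.mkOfHomEquiv
    { homEquiv := fun F G =>
        { toFun := fun φ => unit g F ≫ (CohTop.push g).map φ
          invFun := fun ψ => ext' g ψ
          left_inv := fun φ => hom_ext g (unit_ext' g _)
          right_inv := fun ψ => unit_ext' g ψ }
      homEquiv_naturality_left_symm := fun {F' F G} φ ψ => hom_ext g (by
        dsimp
        rw [Functor.map_comp, ← Category.assoc, ← unit_naturality, Category.assoc, unit_ext', unit_ext'])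
      homEquiv_naturality_right := fun φ χ => by
        dsimp
        rw [Functor.map_comp, Category.assoc] }

/-- The model is the inverse image. -/
noncomputable def mfunIso : mfun g ≅ CohTop.pull g :=
  Adjunction.leftAdjointUniq (madj g) (TopCat.Sheaf.pullbackPushforwardAdjunction AddCommGrpCat.{u} g)

end Groth.Agent.TopPullModel
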